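import Cfsg.Agent.InvolCalc.ZStarApps
import Cfsg.Agent.TwoFusion.FusionTools
import Cfsg.Prelude.Def_Local

/-!
# A standard subgroup that is a double cover without outer automorphisms

If every involution of the cover fuses into the centre of a Sylow 2-subgroup and the automorphisms of that
Sylow subgroup fix its central involutions, a standard subgroup isomorphic to the cover, with cyclic Sylow
2-subgroups in its centraliser, is normal when the odd core is trivial.
-/

set_option autoImplicit false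
set_option linter.unusedSectionVars false

namespace Cfsg.Lib.Components.StdCover

open Cfsg Subgroup

universe u v
variable {G : Type u} [Group G] [Finite G]

theorem unique_invol {R : Type*} [Group R] [Finite R] [IsCyclic R] {x y : R} (hx : orderOf x = 2) (hy : orderOf y = 2) :
    x = y := by
  let _ := Fintype.ofFinite R
  have hd : 2 ∣ Fintype.card R := by rw [← Nat.card_eq_fintype_card, ← hx]; exact orderOf_dvd_natCard x
  have h := IsCyclic.card_orderOf_eq_totient (α := R) hd
  rw [Nat.totient_two] at h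
  exact Finset.card_le_one.mp h.le x (by simp [hx]) y (by simp [hy])

/-- The data of the problem. -/
structure Ctx (A : Subgroup G) (B : Type v) [Group B] where
  std : IsStandardSubgroup A
  e : A ≃* B
  cyc : ∀ R : Sylow 2 (centralizer (A : Set G)), IsCyclic (R : Subgroup (centralizer (A : Set G)))
  zc : B
  zc_sq : zc * zc = 1
  zc_ne : zc ≠ 1
  zc_center : zc ∈ center B
  centre : ∀ {g : B}, g ∈ center B → g = 1 ∨ g = zc
  inner : ∀ σ : B ≃* B, ∃ w : B, ∀ x, σ x = w * x * w⁻¹

namespace Ctx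

variable {A : Subgroup G} {B : Type v} [Group B] (X : Ctx A B)
include X

/-- The central involution. -/
noncomputable def z : G := (X.e.symm X.zc : A)

theorem z_mem : X.z ∈ A := (X.e.symm X.zc).2

theorem z_comm {a : G} (ha : a ∈ A) : a * X.z = X.z * a := by
  have : X.e ⟨a, ha⟩ * X.zc = X.zc * X.e ⟨a, ha⟩ := ((Subgroup.mem_center_iff.mp X.zc_center _).symm).symm
  have h := congrArg X.e.symm this
  simp only [map_mul, MulEquiv.symm_apply_apply] at h
  exact congrArg Subtype.val h

theorem z_centralizer : X.z ∈ centralizer (A : Set G) := mem_centralizer_iff.mpr fun _ ha => X.z_comm ha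

theorem z_sq : X.z * X.z = 1 := by
  show ((X.e.symm X.zc : A) : G) * (X.e.symm X.zc : A) = 1
  rw [← Subgroup.coe_mul, ← map_mul, X.zc_sq, map_one, OneMemClass.coe_one]

theorem z_ne : X.z ≠ 1 := fun h => by
  have : (X.e.symm X.zc : A) = 1 := Subtype.ext h
  rw [MulEquiv.map_eq_one_iff] at this
  exact X.zc_ne this

theorem orderOf_z : orderOf X.z = 2 := orderOf_eq_prime (by rw [pow_two, X.z_sq]) X.z_ne

theorem inter_cases {a : G} (ha : a ∈ A) (hc : a ∈ centralizer (A : Set G)) : a = 1 ∨ a = X.z := by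
  have hz : X.e ⟨a, ha⟩ ∈ center B := Subgroup.mem_center_iff.mpr fun g => by
    have h : (X.e.symm g : A) * ⟨a, ha⟩ = ⟨a, ha⟩ * X.e.symm g :=
      Subtype.ext (mem_centralizer_iff.mp hc _ (X.e.symm g).2)
    simpa using congrArg X.e h
  rcases X.centre hz with h | h
  · left
    exact congrArg Subtype.val (X.e.injective (h.trans (map_one X.e).symm))
  · right
    exact congrArg Subtype.val (X.e.injective (h.trans (X.e.apply_symm_apply X.zc).symm))

theorem mem_sylow_center (R : Sylow 2 (centralizer (A : Set G))) :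
    (⟨X.z, X.z_centralizer⟩ : centralizer (A : Set G)) ∈ (R : Subgroup (centralizer (A : Set G))) := by
  have : Fact (Nat.Prime 2) := ⟨Nat.prime_two⟩
  set x : centralizer (A : Set G) := ⟨X.z, X.z_centralizer⟩
  have hn : (zpowers x).Normal := by
    refine ⟨fun y hy g => ?_⟩
    obtain ⟨k, rfl⟩ := mem_zpowers_iff.mp hy
    have hg : g * x = x * g := Subtype.ext (mem_centralizer_iff.mp g.2 X.z X.z_mem).symm
    rw [(Commute.zpow_right hg k).eq, mul_inv_cancel_right]
    exact zpow_mem (mem_zpowers x) k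
  have hp : IsPGroup 2 (zpowers x) :=
    IsPGroup.of_card_dvd_pow (n := 1) (by
      rw [Nat.card_zpowers, pow_one]
      exact orderOf_dvd_of_pow_eq_one (Subtype.ext (by rw [pow_two]; exact X.z_sq)))
  obtain ⟨Q, hQ⟩ := hp.exists_le_sylow
  obtain ⟨g, hg⟩ := MulAction.exists_smul_eq (centralizer (A : Set G)) Q R
  have hxQ : g⁻¹ * x * g ∈ (Q : Subgroup _) := by
    have := hn.conj_mem x (mem_zpowers x) g⁻¹
    rw [inv_inv] at this
    exact hQ this
  rw [← hg, Sylow.coe_subgroup_smul]
  exact ⟨g⁻¹ * x * g, hxQ, by simp [MulAut.conj_apply, mul_assoc]⟩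

theorem invol_eq {x : G} (hx : x ∈ centralizer (A : Set G)) (h2 : x * x = 1) : x = 1 ∨ x = X.z := by
  by_contra h
  push Not at h
  have : Fact (Nat.Prime 2) := ⟨Nat.prime_two⟩
  set y : centralizer (A : Set G) := ⟨x, hx⟩
  have hy : orderOf y = 2 := orderOf_eq_prime (Subtype.ext (by rw [pow_two]; exact h2)) fun e => h.1 (congrArg Subtype.val e)
  obtain ⟨R, hR⟩ := (IsPGroup.of_card_dvd_pow (n := 1) (p := 2) (G := zpowers y)
    (by rw [Nat.card_zpowers, hy, pow_one])).exists_le_sylow
  have := X.cyc R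
  have e := unique_invol (x := (⟨y, hR (mem_zpowers y)⟩ : (R : Subgroup (centralizer (A : Set G)))))
    (y := ⟨⟨X.z, X.z_centralizer⟩, X.mem_sylow_center R⟩) (by rw [Subgroup.orderOf_mk]; exact hy)
    (by rw [Subgroup.orderOf_mk, Subgroup.orderOf_mk]; exact X.orderOf_z)
  exact h.2 (congrArg (fun r : (R : Subgroup (centralizer (A : Set G))) => ((r : centralizer (A : Set G)) : G)) e)

theorem normalizer_le : normalizer (A : Set G) ≤ centralizer ({X.z} : Set G) := by
  intro g hg
  have hzA : g * X.z * g⁻¹ ∈ A := (mem_normalizer_iff.mp hg X.z).mp X.z_mem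
  have hzC : g * X.z * g⁻¹ ∈ centralizer (A : Set G) := mem_centralizer_iff.mpr fun a ha => by
    have ha' : g⁻¹ * a * g ∈ A := by
      have := (mem_normalizer_iff.mp (inv_mem hg) a).mp ha
      rwa [inv_inv] at this
    have := X.z_comm ha'
    calc a * (g * X.z * g⁻¹) = g * (g⁻¹ * a * g * X.z) * g⁻¹ := by group
      _ = g * (X.z * (g⁻¹ * a * g)) * g⁻¹ := by rw [this]
      _ = _ := by group
  rcases X.inter_cases hzA hzC with h | h
  · rw [conj_eq_one_iff] at h; exact absurd h X.z_ne
  · exact mem_centralizer_singleton_iff.mpr (mul_inv_eq_iff_eq_mul.mp h)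

theorem centralizer_z : centralizer ({X.z} : Set G) = normalizer (A : Set G) := by
  refine le_antisymm (fun g hg => ?_) X.normalizer_le
  rw [X.std.2.2.2]
  by_contra hgN
  have hodd := X.std.2.1.2 g hgN
  have hz : X.z ∈ (centralizer (A : Set G)).map (MulAut.conj g).toMonoidHom := by
    refine ⟨X.z, X.z_centralizer, ?_⟩
    show g * X.z * g⁻¹ = X.z
    rw [mem_centralizer_singleton_iff.mp hg, mul_inv_cancel_right]
  have hd := Subgroup.orderOf_dvd_natCard _ (Subgroup.mem_inf.2 ⟨X.z_centralizer, hz⟩)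
  rw [X.orderOf_z] at hd
  obtain ⟨k, hk⟩ := hodd
  omega

theorem factor {n : G} (hn : n ∈ normalizer (A : Set G)) :
    ∃ a ∈ A, ∃ c ∈ centralizer (A : Set G), n = a * c := by
  let σ : A ≃* A :=
    { toFun := fun x => ⟨n * x * n⁻¹, (mem_normalizer_iff.mp hn _).mp x.2⟩
      invFun := fun x => ⟨n⁻¹ * x * n, by
        have := (mem_normalizer_iff.mp (inv_mem hn) _).mp x.2
        rwa [inv_inv] at this⟩
      left_inv := fun x => Subtype.ext (by show n⁻¹ * (n * x * n⁻¹) * n = x; group)
      right_inv := fun x => Subtype.ext (by show n * (n⁻¹ * x * n) * n⁻¹ = x; group)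
      map_mul' := fun x y => Subtype.ext (by
        show n * (x * y : G) * n⁻¹ = (n * x * n⁻¹) * (n * y * n⁻¹)
        group) }
  obtain ⟨w, hB⟩ := X.inner ((X.e.symm.trans σ).trans X.e)
  refine ⟨(X.e.symm w : A), (X.e.symm w).2, ((X.e.symm w : A) : G)⁻¹ * n, ?_, by group⟩
  refine mem_centralizer_iff.mpr fun a ha => ?_
  have h := congrArg X.e.symm (hB (X.e ⟨a, ha⟩))
  simp only [MulEquiv.trans_apply, MulEquiv.symm_apply_apply, map_mul, map_inv] at h
  have h' : n * a * n⁻¹ = ((X.e.symm w : A) : G) * a * ((X.e.symm w : A) : G)⁻¹ := congrArg Subtype.val h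
  calc a * (((X.e.symm w : A) : G)⁻¹ * n)
      = ((X.e.symm w : A) : G)⁻¹ * (((X.e.symm w : A) : G) * a * ((X.e.symm w : A) : G)⁻¹) * n := by group
    _ = _ := by rw [← h']; group

theorem conj_z_mem {g : G} (hc : X.z * (g * X.z * g⁻¹) = (g * X.z * g⁻¹) * X.z) : g⁻¹ * X.z * g ∈ A := by
  have : Fact (Nat.Prime 2) := ⟨Nat.prime_two⟩
  set t := g * X.z * g⁻¹ with ht
  set C := centralizer (A : Set G)
  have htN : t ∈ normalizer (A : Set G) := by
    rw [← X.centralizer_z]; exact mem_centralizer_singleton_iff.mpr hc.symm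
  obtain ⟨a, ha, c, hcC, htac⟩ := X.factor htN
  have hac : a * c = c * a := mem_centralizer_iff.mp hcC a ha
  have ht2 : t * t = 1 := by
    rw [ht, show g * X.z * g⁻¹ * (g * X.z * g⁻¹) = g * (X.z * X.z) * g⁻¹ by group, X.z_sq]; group
  have hcc : c * c = (a * a)⁻¹ := by
    rw [eq_inv_iff_mul_eq_one]
    have e : (a * c) * (a * c) = 1 := htac ▸ ht2
    rw [← mul_eq_one_comm]
    calc a * a * (c * c) = a * (a * c) * c := by group
      _ = a * (c * a) * c := by rw [hac]
      _ = 1 := by rw [← e]; group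
  have hc4 : (c ^ 2) ^ 2 = 1 := by
    have hA : c * c ∈ A := hcc ▸ inv_mem (mul_mem ha ha)
    rcases X.inter_cases hA (mul_mem hcC hcC) with h | h <;> rw [pow_two c, h, pow_two]
    · rw [one_mul]
    · exact X.z_sq
  obtain ⟨R, hR⟩ := (IsPGroup.of_card_dvd_pow (n := 2) (p := 2) (G := zpowers (⟨c, hcC⟩ : C)) (by
    rw [Nat.card_zpowers]
    exact orderOf_dvd_of_pow_eq_one (Subtype.ext (by
      show c ^ (2 ^ 2) = 1
      rw [show (2 : ℕ) ^ 2 = 2 * 2 from rfl, pow_mul]
      exact hc4)))).exists_le_sylow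
  have hcycR := X.cyc R
  obtain ⟨ρ, hρ⟩ := IsCyclic.exists_generator (α := (R : Subgroup C))
  obtain ⟨k, hk⟩ := R.isPGroup'.exists_card_eq
  have hzR : (⟨X.z, X.z_centralizer⟩ : C) ∈ (R : Subgroup C) := X.mem_sylow_center R
  have hord : orderOf ρ = 2 ^ k := by rw [orderOf_eq_card_of_forall_mem_zpowers hρ, hk]
  obtain ⟨j, rfl⟩ : ∃ j, k = j + 1 := by
    refine ⟨k - 1, ?_⟩
    have h2 : 2 ∣ Nat.card (R : Subgroup C) := by
      have h := orderOf_dvd_natCard (⟨⟨X.z, X.z_centralizer⟩, hzR⟩ : (R : Subgroup C))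
      rwa [Subgroup.orderOf_mk, Subgroup.orderOf_mk, X.orderOf_z] at h
    rcases Nat.eq_zero_or_pos k with rfl | hk0
    · rw [hk, pow_zero] at h2; omega
    · omega
  set r : G := ((ρ : C) : G)
  have hρC : r ∈ C := (ρ : C).2
  have hrc : r * c = c * r := by
    obtain ⟨m, hm⟩ := mem_zpowers_iff.mp (hρ ⟨⟨c, hcC⟩, hR (mem_zpowers _)⟩)
    have e : r ^ m = c := by
      have := congrArg (fun x : (R : Subgroup C) => ((x : C) : G)) hm
      simpa [r] using this
    rw [← e]; exact (Commute.zpow_right (Commute.refl r) m).eq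
  have hrt : r * t = t * r := by
    have hra : a * r = r * a := mem_centralizer_iff.mp hρC a ha
    rw [htac, ← mul_assoc, ← hra, mul_assoc, hrc, mul_assoc]
  have hrN : g⁻¹ * r * g ∈ normalizer (A : Set G) := by
    rw [← X.centralizer_z, mem_centralizer_singleton_iff]
    calc g⁻¹ * r * g * X.z = g⁻¹ * (r * (g * X.z * g⁻¹)) * g := by group
      _ = g⁻¹ * ((g * X.z * g⁻¹) * r) * g := by rw [hrt]
      _ = _ := by group
  obtain ⟨α, hα, γ, hγ, hαγ⟩ := X.factor hrN
  have hαγc : Commute α γ := mem_centralizer_iff.mp hγ α hα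
  obtain ⟨i, v, hv, hdec⟩ : ∃ i v, ¬ 2 ∣ v ∧ orderOf γ = 2 ^ i * v :=
    Nat.exists_eq_pow_mul_and_not_dvd (orderOf_pos γ).ne' 2 (by norm_num)
  set m := v ^ Nat.totient (2 ^ (j + 1)) with hm
  have hm1 : m ≡ 1 [MOD 2 ^ (j + 1)] :=
    Nat.ModEq.pow_totient ((Nat.prime_two.coprime_iff_not_dvd.mpr hv).symm.pow_right _)
  have hrm : r ^ m = r := by
    have hr : r ^ (2 ^ (j + 1)) = 1 := by
      have := congrArg (fun x : (R : Subgroup C) => ((x : C) : G)) (hord ▸ pow_orderOf_eq_one ρ)
      simpa [r] using this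
    conv_rhs => rw [← pow_one r]
    exact pow_eq_pow_iff_modEq.mpr (Nat.ModEq.of_dvd (orderOf_dvd_of_pow_eq_one hr) hm1)
  have hγ2 : (γ ^ m) ^ (2 ^ i) = 1 := by
    rw [← pow_mul, ← orderOf_dvd_iff_pow_eq_one, hdec, mul_comm m]
    exact mul_dvd_mul_left _ (dvd_pow_self v (Nat.totient_pos.mpr (by positivity)).ne')
  set γ' : C := ⟨γ ^ m, pow_mem hγ m⟩
  have hbound : (γ ^ m) ^ (2 ^ (j + 1)) = 1 := by
    obtain ⟨S, hS⟩ := (IsPGroup.of_card_dvd_pow (n := i) (p := 2) (G := zpowers γ') (by
      rw [Nat.card_zpowers]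
      exact orderOf_dvd_of_pow_eq_one (Subtype.ext hγ2))).exists_le_sylow
    have h := pow_card_eq_one' (G := (S : Subgroup C)) (x := ⟨γ', hS (mem_zpowers γ')⟩)
    rw [S.card_eq_multiplicity, ← R.card_eq_multiplicity, hk] at h
    exact congrArg (fun x : (S : Subgroup C) => ((x : C) : G)) h
  have hγA : (γ ^ m) ^ (2 ^ j) ∈ A := by
    rcases X.invol_eq (pow_mem (pow_mem hγ m) _) (by
      rw [← pow_add, ← two_mul, ← pow_succ']; exact hbound) with h | h
    · rw [h]; exact one_mem A
    · rw [h]; exact X.z_mem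
  have hrz : r ^ (2 ^ j) = X.z := by
    rcases X.invol_eq (pow_mem hρC (2 ^ j)) (by
      rw [← pow_add, ← two_mul, ← pow_succ']
      have := congrArg (fun x : (R : Subgroup C) => ((x : C) : G)) (hord ▸ pow_orderOf_eq_one ρ)
      simpa [r] using this) with h | h
    · exfalso
      have : ρ ^ (2 ^ j) = 1 := Subtype.ext (Subtype.ext (by simpa [r] using h))
      have hd := orderOf_dvd_of_pow_eq_one this
      rw [hord, Nat.pow_dvd_pow_iff_le_right (by norm_num)] at hd
      omega
    · exact h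
  have e : g⁻¹ * X.z * g = (α ^ m) ^ (2 ^ j) * (γ ^ m) ^ (2 ^ j) := by
    rw [← ((hαγc.pow_pow m m).mul_pow (2 ^ j)), ← hαγc.mul_pow m, ← hαγ, ← hrz]
    conv_lhs => rw [← hrm]
    have h := fun (x : G) (n : ℕ) => (map_pow (MulAut.conj g⁻¹) x n)
    simp only [MulAut.conj_apply, inv_inv] at h
    rw [← h, ← h]
  rw [e]
  exact mul_mem (pow_mem (pow_mem hα m) _) hγA

/-- The factorised product map onto the normaliser. -/
noncomputable def mulMap (_X : Ctx A B) : A × centralizer (A : Set G) →* G where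
  toFun p := (p.1 : G) * p.2
  map_one' := by simp
  map_mul' p q := by
    show ((p.1 : G) * q.1) * ((p.2 : G) * q.2) = (p.1 : G) * p.2 * ((q.1 : G) * q.2)
    rw [mul_assoc, ← mul_assoc (q.1 : G), mem_centralizer_iff.mp p.2.2 _ q.1.2]
    group

theorem range_mulMap : X.mulMap.range = normalizer (A : Set G) := by
  ext n
  constructor
  · rintro ⟨⟨a, c⟩, rfl⟩
    exact mul_mem (le_normalizer a.2) (centralizer_le_normalizer _ c.2)
  · intro hn
    obtain ⟨a, ha, c, hc, rfl⟩ := X.factor hn
    exact ⟨(⟨a, ha⟩, ⟨c, hc⟩), rfl⟩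

/-- The image in `G` of an element of the cover. -/
noncomputable def img (b : B) : G := ((X.e.symm b : A) : G)

theorem img_mem (b : B) : X.img b ∈ A := (X.e.symm b).2

theorem img_mul (b c : B) : X.img (b * c) = X.img b * X.img c := by
  simp [img]

theorem img_inj {b c : B} (h : X.img b = X.img c) : b = c := X.e.symm.injective (Subtype.ext h)

theorem img_isConj {b c : B} (h : IsConj b c) : IsConj (X.img b) (X.img c) :=
  (MonoidHom.map_isConj (A.subtype.comp X.e.symm.toMonoidHom) h)

/-- The conclusion: the subgroup is normal. -/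
theorem normal (P : Subgroup B) (hP2 : IsPGroup 2 P) (hPi : ¬ 2 ∣ P.index)
    (hfus : ∀ x : B, x * x = 1 → x ≠ 1 → x ≠ X.zc → ∃ c ∈ P, (∀ s ∈ P, s * c = c * s) ∧ IsConj x c)
    (hexp : ∀ s ∈ P, (∀ v ∈ P, v * s = s * v) → s * s = 1)
    (hfix : ∀ (φ : P ≃* P) (c : P), c * c = 1 → (∀ s : P, s * c = c * s) → φ c = c)
    (hO : oddCore G = ⊥) : A.Normal := by
  have : Fact (Nat.Prime 2) := ⟨Nat.prime_two⟩
  suffices hiso : IsIsolatedInvolution X.z by
    refine normalizer_eq_top_iff.mp ?_
    rw [← X.centralizer_z, eq_top_iff]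
    intro g _
    rw [mem_centralizer_singleton_iff]
    have h := Cfsg.Lib.ZStarApps.zstarProp hiso g
    rw [show pPrimeCore 2 G = ⊥ from hO, mem_bot, mul_inv_eq_one, mul_inv_eq_iff_eq_mul] at h
    exact h.symm
  refine ⟨X.orderOf_z, fun g hc => ?_⟩
  by_contra hne
  -- a conjugate of the central involution in the centre of the Sylow subgroup of `A`
  have hc' : X.z * (g⁻¹ * X.z * g⁻¹⁻¹) = g⁻¹ * X.z * g⁻¹⁻¹ * X.z := by
    rw [inv_inv]
    calc X.z * (g⁻¹ * X.z * g) = g⁻¹ * ((g * X.z * g⁻¹) * X.z) * g := by group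
      _ = g⁻¹ * (X.z * (g * X.z * g⁻¹)) * g := by rw [hc.eq]
      _ = _ := by group
  have ht : g * X.z * g⁻¹ ∈ A := by
    have := X.conj_z_mem hc'
    rwa [inv_inv] at this
  set x := X.e ⟨_, ht⟩
  have hxt : X.img x = g * X.z * g⁻¹ := congrArg Subtype.val (X.e.symm_apply_apply _)
  have himgz : X.img X.zc = X.z := rfl
  have himg1 : X.img 1 = 1 := by simp [img]
  obtain ⟨c, hcP, hcc, hxc⟩ := hfus x
    (X.img_inj (by
      rw [img_mul, hxt, himg1]
      calc g * X.z * g⁻¹ * (g * X.z * g⁻¹) = g * (X.z * X.z) * g⁻¹ := by group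
        _ = 1 := by rw [X.z_sq]; group))
    (fun h => by rw [h, himg1] at hxt; exact X.z_ne (conj_eq_one_iff.mp hxt.symm))
    (fun h => by rw [h, himgz] at hxt; exact hne hxt.symm)
  obtain ⟨h, hh⟩ : ∃ h : G, h * X.z * h⁻¹ = X.img c := by
    obtain ⟨k, hk⟩ := isConj_iff.mp (X.img_isConj hxc)
    exact ⟨k * g, by rw [← hk, hxt]; group⟩
  have hcz : c ≠ X.zc := by
    intro e
    rw [e] at hxc
    obtain ⟨k, hk⟩ := isConj_iff.mp hxc.symm
    rw [mem_center_iff.mp X.zc_center k, mul_inv_cancel_right] at hk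
    exact hne (by
      have := congrArg X.img hk
      rwa [himgz, hxt, eq_comm] at this)
  have hc2 : c * c = 1 := by
    obtain ⟨k, hk⟩ := isConj_iff.mp hxc
    have hx2 : x * x = 1 := X.img_inj (by
      rw [img_mul, hxt, himg1]
      calc g * X.z * g⁻¹ * (g * X.z * g⁻¹) = g * (X.z * X.z) * g⁻¹ := by group
        _ = 1 := by rw [X.z_sq]; group)
    rw [← hk, show k * x * k⁻¹ * (k * x * k⁻¹) = k * (x * x) * k⁻¹ by group, hx2]; group
  have hc1 : c ≠ 1 := by
    intro e
    rw [e, himg1, conj_eq_one_iff] at hh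
    exact X.z_ne hh
  have hzP : X.zc ∈ P := by
    obtain ⟨R', hR'⟩ := (IsPGroup.of_card_dvd_pow (n := 1) (p := 2) (G := zpowers X.zc) (by
      rw [Nat.card_zpowers, pow_one]
      exact orderOf_dvd_of_pow_eq_one (by rw [pow_two]; exact X.zc_sq))).exists_le_sylow
    have : Finite B := Finite.of_equiv A X.e.toEquiv
    obtain ⟨k, hk⟩ := MulAction.exists_smul_eq B R' (hP2.toSylow hPi)
    show X.zc ∈ ((hP2.toSylow hPi : Sylow 2 B) : Subgroup B)
    rw [← hk, Sylow.coe_subgroup_smul]
    exact ⟨X.zc, hR' (mem_zpowers _), show k * X.zc * k⁻¹ = X.zc by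
      rw [mem_center_iff.mp X.zc_center k, mul_inv_cancel_right]⟩
  -- a Sylow subgroup of the centraliser
  obtain ⟨R⟩ := (inferInstance : Nonempty (Sylow 2 (centralizer (A : Set G))))
  set PA : Subgroup A := P.comap X.e.toMonoidHom with hPA
  set T : Subgroup G := (PA.prod (R : Subgroup (centralizer (A : Set G)))).map X.mulMap with hTdef
  have hT : ∀ {y : G}, y ∈ T → ∃ s ∈ P, ∃ r ∈ (R : Subgroup (centralizer (A : Set G))), y = X.img s * r := by
    rintro _ ⟨⟨a, r⟩, ⟨ha, hr⟩, rfl⟩
    refine ⟨X.e a, ha, r, hr, ?_⟩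
    show (a : G) * r = X.img (X.e a) * r
    rw [img, X.e.symm_apply_apply]
  have hTof : ∀ {s : B}, s ∈ P → ∀ {r : centralizer (A : Set G)}, r ∈ (R : Subgroup (centralizer (A : Set G))) →
      X.img s * r ∈ T := fun {s} hs {r} hr =>
    ⟨(X.e.symm s, r), ⟨by show X.e (X.e.symm s) ∈ P; rwa [X.e.apply_symm_apply], hr⟩, rfl⟩
  have hTle : T ≤ normalizer (A : Set G) := by
    rw [← X.range_mulMap]; exact map_le_range _ _
  have hTp : IsPGroup 2 T := by
    have h1 : IsPGroup 2 PA := hP2.comap_of_injective _ X.e.injective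
    refine IsPGroup.map (fun q => ?_) _
    obtain ⟨i, hi⟩ := h1 ⟨q.1.1, q.2.1⟩
    obtain ⟨j, hj⟩ := R.isPGroup' ⟨q.1.2, q.2.2⟩
    have hi' : q.1.1 ^ 2 ^ i = 1 := congrArg Subtype.val hi
    have hj' : q.1.2 ^ 2 ^ j = 1 := congrArg Subtype.val hj
    exact ⟨i + j, Subtype.ext (Prod.ext
      (by show q.1.1 ^ 2 ^ (i + j) = 1; rw [pow_add, pow_mul, hi', one_pow])
      (by show q.1.2 ^ 2 ^ (i + j) = 1; rw [pow_add, mul_comm, pow_mul, hj', one_pow]))⟩
  have hTidx : ¬ 2 ∣ T.relIndex (normalizer (A : Set G)) := by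
    rw [← X.range_mulMap, hTdef, MonoidHom.range_eq_map, relIndex_map_map, top_sup_eq, relIndex_top_right]
    intro h2
    have hd := h2.trans (index_dvd_of_le le_sup_left)
    have hA : ¬ 2 ∣ PA.index := by
      rwa [hPA, index_comap_of_surjective _ X.e.surjective]
    have hR : ¬ 2 ∣ (R : Subgroup (centralizer (A : Set G))).index := R.not_dvd_index
    have e := index_mul_card (PA.prod (R : Subgroup (centralizer (A : Set G))))
    rw [Nat.card_congr (prodEquiv PA (R : Subgroup (centralizer (A : Set G)))).toEquiv, Nat.card_prod,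
      Nat.card_prod, ← index_mul_card PA, ← index_mul_card (R : Subgroup (centralizer (A : Set G)))] at e
    have e' : (PA.prod (R : Subgroup (centralizer (A : Set G)))).index =
        PA.index * (R : Subgroup (centralizer (A : Set G))).index :=
      Nat.eq_of_mul_eq_mul_right (Nat.mul_pos Nat.card_pos Nat.card_pos) (by rw [e]; ring)
    rw [e'] at hd
    exact ((Nat.prime_two.dvd_mul).mp hd).elim hA hR
  -- the centre of the Sylow subgroup contains both involutions
  set t := X.img c with htdef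
  have htC : ∀ y ∈ T, y * t = t * y := fun y hy => by
    obtain ⟨s, hs, r, hr, rfl⟩ := hT hy
    rw [htdef, mul_assoc, ← mem_centralizer_iff.mp r.2 _ (X.img_mem c), ← mul_assoc, ← img_mul, hcc s hs, img_mul,
      mul_assoc]
  have hzC : ∀ y ∈ T, y * X.z = X.z * y := fun y hy => by
    have := hTle hy
    rw [← X.centralizer_z] at this
    exact mem_centralizer_singleton_iff.mp this
  -- both conjugates of `T` are Sylow subgroups of the centraliser of `t`
  set N := centralizer ({t} : Set G) with hN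
  have hTN : T ≤ N := fun y hy => mem_centralizer_singleton_iff.mpr (htC y hy)
  set T' := T.map (MulAut.conj h).toMonoidHom with hT'
  have hT'N : T' ≤ N := by
    rintro _ ⟨y, hy, rfl⟩
    refine mem_centralizer_singleton_iff.mpr ?_
    show h * y * h⁻¹ * t = t * (h * y * h⁻¹)
    rw [← hh]
    calc h * y * h⁻¹ * (h * X.z * h⁻¹) = h * (y * X.z) * h⁻¹ := by group
      _ = h * (X.z * y) * h⁻¹ := by rw [hzC y hy]
      _ = _ := by group
  have hNmap : N = (centralizer ({X.z} : Set G)).map (MulAut.conj h).toMonoidHom := by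
    ext y
    rw [mem_map_equiv, mem_centralizer_singleton_iff, mem_centralizer_singleton_iff, ← hh, MulAut.conj_symm_apply]
    constructor <;> intro e
    · calc h⁻¹ * y * h * X.z = h⁻¹ * (y * (h * X.z * h⁻¹)) * h := by group
        _ = h⁻¹ * ((h * X.z * h⁻¹) * y) * h := by rw [e]
        _ = _ := by group
    · calc y * (h * X.z * h⁻¹) = h * (h⁻¹ * y * h * X.z) * h⁻¹ := by group
        _ = h * (X.z * (h⁻¹ * y * h)) * h⁻¹ := by rw [e]
        _ = _ := by group
  have hidx' : ¬ 2 ∣ T'.relIndex N := by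
    rw [hT', hNmap, relIndex_map_map_of_injective _ _ (MulAut.conj h).injective, X.centralizer_z]
    exact hTidx
  set Q' : Sylow 2 N := ((hTp.map _).comap_subtype (K := N)).toSylow hidx' with hQ'
  obtain ⟨Q₁, hQ₁⟩ := ((hTp.comap_subtype (K := N))).exists_le_sylow
  obtain ⟨k, hk⟩ := MulAction.exists_smul_eq N Q₁ Q'
  have hQQ : (Q₁ : Subgroup N) = T.subgroupOf N := by
    refine le_antisymm ?_ hQ₁
    have hcard : Nat.card (Q₁ : Subgroup N) ≤ Nat.card (T.subgroupOf N) := by
      rw [Q₁.card_eq_multiplicity, ← Q'.card_eq_multiplicity]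
      refine le_of_eq ?_
      show Nat.card (T'.subgroupOf N) = _
      rw [Nat.card_congr (subgroupOfEquivOfLe hT'N).toEquiv, Nat.card_congr (subgroupOfEquivOfLe hTN).toEquiv, hT']
      exact (Nat.card_congr (equivMapOfInjective T _ (MulAut.conj h).injective).toEquiv).symm
    exact (Subgroup.eq_of_le_of_card_ge hQ₁ hcard).ge
  set n : G := (k : G)⁻¹ * h with hn
  have hnt : n * X.z * n⁻¹ = t := by
    have hkt : (k : G) * t = t * k := mem_centralizer_singleton_iff.mp k.2
    calc n * X.z * n⁻¹ = (k : G)⁻¹ * (h * X.z * h⁻¹) * k := by rw [hn]; group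
      _ = (k : G)⁻¹ * (t * k) := by rw [hh]; group
      _ = t := by rw [← hkt]; group
  have hnT : ∀ y ∈ T, n * y * n⁻¹ ∈ T := by
    intro y hy
    have hy' : h * y * h⁻¹ ∈ T' := ⟨y, hy, rfl⟩
    have hm : (⟨_, hT'N hy'⟩ : N) ∈ (Q' : Subgroup N) := hy'
    rw [← hk, Sylow.coe_subgroup_smul, hQQ] at hm
    obtain ⟨w, hw, hwe⟩ := hm
    have e : (k : G) * (w : G) * (k : G)⁻¹ = h * y * h⁻¹ := congrArg Subtype.val hwe
    have : n * y * n⁻¹ = (w : G) := by
      rw [hn, show (k : G)⁻¹ * h * y * ((k : G)⁻¹ * h)⁻¹ = (k : G)⁻¹ * (h * y * h⁻¹) * k by group, ← e]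
      group
    rw [this]; exact hw
  set f : T →* T :=
    { toFun := fun y => ⟨n * y * n⁻¹, hnT y y.2⟩
      map_one' := Subtype.ext (by simp)
      map_mul' := fun y w => Subtype.ext (by
        show n * ((y : G) * w) * n⁻¹ = n * y * n⁻¹ * (n * w * n⁻¹)
        group) } with hf
  have hfb : Function.Bijective f := Finite.injective_iff_bijective.mp fun y w e => by
    have := congrArg Subtype.val e
    exact Subtype.ext (mul_left_cancel (mul_right_cancel this))
  set σ := MulEquiv.ofBijective f hfb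
  have hzTm : X.z ∈ T := by
    simpa [himgz] using hTof hzP (one_mem (R : Subgroup (centralizer (A : Set G))))
  have htT : t ∈ T := by simpa using hTof hcP (one_mem (R : Subgroup (centralizer (A : Set G))))
  by_cases hroot : ∃ r ∈ (R : Subgroup (centralizer (A : Set G))), (r : G) * r = X.z
  · -- the central involution is a square in the centre
    obtain ⟨r, hr, hrz⟩ := hroot
    have hrT : (r : G) ∈ T := by simpa [himg1] using hTof (one_mem P) hr
    have hRc : ∀ w ∈ (R : Subgroup (centralizer (A : Set G))), w * r = r * w := fun w hw => by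
      have := X.cyc R
      exact congrArg Subtype.val (IsCyclic.commGroup.mul_comm (⟨w, hw⟩ : (R : Subgroup (centralizer (A : Set G)))) ⟨r, hr⟩)
    have hrc : ∀ y ∈ T, y * (r : G) = r * y := fun y hy => by
      obtain ⟨s, hs, w, hw, rfl⟩ := hT hy
      have e2 : (w : G) * r = r * w := congrArg Subtype.val (hRc w hw)
      rw [mul_assoc, e2, ← mul_assoc, mem_centralizer_iff.mp r.2 _ (X.img_mem s), mul_assoc]
    obtain ⟨s, hs, w, hw, hsw⟩ := hT (hnT _ hrT)
    have hsz : ∀ v ∈ P, v * s = s * v := fun v hv => by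
      obtain ⟨y, hy⟩ := hfb.2 ⟨X.img v * ((1 : centralizer (A : Set G)) : G), hTof hv (one_mem _)⟩
      have e1 : n * (y : G) * n⁻¹ = X.img v := by simpa [hf] using congrArg Subtype.val hy
      refine X.img_inj ?_
      have e2 : X.img v * (X.img s * w) = (X.img s * w) * X.img v := by
        rw [← hsw, ← e1, show n * (y : G) * n⁻¹ * (n * (r : G) * n⁻¹) = n * ((y : G) * r) * n⁻¹ by group,
          hrc y y.2]
        group
      rw [mul_assoc, ← mem_centralizer_iff.mp w.2 _ (X.img_mem v), ← mul_assoc, ← mul_assoc] at e2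
      rw [img_mul, img_mul]
      exact mul_right_cancel e2
    have hs2 : t = X.img (s * s) * ((w : G) * w) := by
      rw [← hnt, ← hrz, show n * ((r : G) * r) * n⁻¹ = (n * r * n⁻¹) * (n * r * n⁻¹) by group, hsw, img_mul]
      have e3 : (w : G) * X.img s = X.img s * w := (mem_centralizer_iff.mp w.2 _ (X.img_mem s)).symm
      calc X.img s * w * (X.img s * w) = X.img s * ((w : G) * X.img s) * w := by group
        _ = _ := by rw [e3]; group
    rw [hexp s hs hsz, himg1, one_mul] at hs2
    have htw : t ∈ centralizer (A : Set G) := by rw [hs2]; exact mul_mem w.2 w.2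
    have := X.inter_cases (X.img_mem c) htw
    rcases this with e | e
    · exact hc1 (X.img_inj (e.trans himg1.symm))
    · exact hcz (X.img_inj (e.trans himgz.symm))
  · -- the Sylow subgroup of the centraliser lies in `A`
    have hR2 : ∀ r ∈ (R : Subgroup (centralizer (A : Set G))), (r : G) = 1 ∨ (r : G) = X.z := by
      intro r hr
      obtain ⟨m, hm⟩ := R.isPGroup' ⟨r, hr⟩
      have hm' : (r : G) ^ 2 ^ m = 1 :=
        congrArg (fun q : (R : Subgroup (centralizer (A : Set G))) => ((q : centralizer (A : Set G)) : G)) hm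
      clear hm
      induction m with
      | zero => left; rwa [pow_zero, pow_one] at hm'
      | succ m ih =>
        rcases X.invol_eq (pow_mem r.2 (2 ^ m)) (by rw [← pow_add, ← two_mul, ← pow_succ']; exact hm') with e | e
        · exact ih e
        · rcases m with _ | m
          · right; rwa [pow_zero, pow_one] at e
          · exfalso
            refine hroot ⟨r ^ 2 ^ m, pow_mem hr _, ?_⟩
            rw [Subgroup.coe_pow, ← pow_add, ← two_mul, ← pow_succ']
            exact e
    have hTA : ∀ {y : G}, y ∈ T → ∃ s ∈ P, y = X.img s := fun hy => by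
      obtain ⟨s, hs, r, hr, rfl⟩ := hT hy
      rcases hR2 r hr with e | e
      · exact ⟨s, hs, by rw [e, mul_one]⟩
      · exact ⟨s * X.zc, mul_mem hs hzP, by rw [e, img_mul, himgz]⟩
    have hTP : ∀ s : P, X.img s ∈ T := fun s => by
      simpa using hTof s.2 (one_mem (R : Subgroup (centralizer (A : Set G))))
    set q : P →* T :=
      { toFun := fun s => ⟨X.img s, hTP s⟩
        map_one' := Subtype.ext himg1
        map_mul' := fun a b => Subtype.ext (X.img_mul a b) } with hq
    have hqb : Function.Bijective q := ⟨fun a b e =>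
        Subtype.ext (X.img_inj (congrArg (fun y : T => (y : G)) e)),
      fun y => by
        obtain ⟨s, hs, e⟩ := hTA y.2
        exact ⟨⟨s, hs⟩, Subtype.ext e.symm⟩⟩
    set ε := MulEquiv.ofBijective q hqb
    set zP : P := ⟨X.zc, hzP⟩
    have hcontra := hfix ((ε.trans σ).trans ε.symm) zP (Subtype.ext X.zc_sq)
      (fun s => Subtype.ext (mem_center_iff.mp X.zc_center s))
    rw [MulEquiv.trans_apply, MulEquiv.trans_apply, MulEquiv.symm_apply_eq] at hcontra
    have hval : n * X.z * n⁻¹ = X.z := congrArg Subtype.val hcontra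
    exact hcz (X.img_inj ((hnt.symm.trans hval).trans himgz.symm))

end Ctx

end Cfsg.Lib.Components.StdCover
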